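import Groth.Agent.RFPlus.Single
import Groth.Agent.DerPlus.LongExact

/-!
Short exact sequences of right acyclic objects, via the long exact sequence of `RF`.
-/

set_option autoImplicit false

universe w w' v v' u u'

open CategoryTheory CategoryTheory.Limits

namespace Groth.Agent.RFPlus

variable {A : Type u} [Category.{v} A] [Abelian A] [EnoughInjectives A]
  {B : Type u'} [Category.{v'} B] [Abelian B]

/-- Right acyclic objects for `F`. -/
def Acyc (F : A ⥤ B) [F.Additive] (X : A) : Prop :=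
  ∀ i : ℕ, 0 < i → IsZero ((F.rightDerived i).obj X)

theorem Acyc.of_iso {F : A ⥤ B} [F.Additive] {X Y : A} (e : X ≅ Y) (h : Acyc F X) : Acyc F Y :=
  fun i hi => (h i hi).of_iso ((F.rightDerived i).mapIso e.symm)

theorem Acyc.of_injective (F : A ⥤ B) [F.Additive] (X : A) [Injective X] : Acyc F X := by
  rintro (_ | i) hi
  · simp at hi
  · exact F.isZero_rightDerived_obj_injective_succ i X

theorem Acyc.of_isZero (F : A ⥤ B) [F.Additive] {X : A} (h : IsZero X) : Acyc F X := by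
  haveI := h.injective
  exact Acyc.of_injective F X

section

variable [HasDerivedCategory.{w} A] [HasDerivedCategory.{w'} B] (F : A ⥤ B) [F.Additive]

/-- `X ↦ Hⁿ(RF(X[0]))`. -/
noncomputable abbrev Hobj (n : ℤ) (X : A) : B :=
  (F.rightDerivedFunctorPlus ⋙ DerivedCategory.Plus.homologyFunctor B n).obj
    (DerivedCategory.Plus.Qh.obj ((HomotopyCategory.Plus.quotient A).obj (single₀P X)))

theorem nonempty_hobj_iso (X : A) (i : ℕ) :
    Nonempty (Hobj F (i : ℤ) X ≅ (F.rightDerived i).obj X) := by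
  let R := injectiveResolution X
  let I : CochainComplex.Plus A := ⟨R.cochainComplex, ⟨0, inferInstance⟩⟩
  let φ : single₀P X ⟶ I := ObjectProperty.homMk R.ι'
  haveI := (isIso_Qh_map_iff φ).2 (inferInstanceAs (QuasiIso R.ι'))
  haveI := isIso_unit_of_injective F I
    (fun n => inferInstanceAs (Injective (R.cochainComplex.X n)))
  exact ⟨(F.rightDerivedFunctorPlus ⋙ DerivedCategory.Plus.homologyFunctor B i).mapIso
      (asIso (DerivedCategory.Plus.Qh.map ((HomotopyCategory.Plus.quotient A).map φ))) ≪≫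
    (DerivedCategory.Plus.homologyFunctor B i).mapIso
      (asIso (F.rightDerivedFunctorPlusUnit.app ((HomotopyCategory.Plus.quotient A).obj I))).symm ≪≫
    (DerivedCategory.homologyFunctor B i).mapIso
      ((DerivedCategory.quotientCompQhIso B).app
        ((F.mapHomologicalComplex (ComplexShape.up ℤ)).obj R.cochainComplex)) ≪≫
    (DerivedCategory.homologyFunctorFactors B i).app _ ≪≫
    (HomologicalComplex.homologyFunctor B _ (i : ℤ)).mapIso (mapExtendIso F R.cocomplex) ≪≫
    HomologicalComplex.extendHomologyIso _ ComplexShape.embeddingUpNat (j := i) (by simp) ≪≫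
    (R.isoRightDerivedObj F i).symm⟩

theorem isZero_hobj {X : A} (h : Acyc F X) {i : ℕ} (hi : 0 < i) : IsZero (Hobj F (i : ℤ) X) :=
  (h i hi).of_iso (nonempty_hobj_iso F X i).some

theorem acyc_of_isZero_hobj {X : A} (h : ∀ i : ℕ, 0 < i → IsZero (Hobj F (i : ℤ) X)) : Acyc F X :=
  fun i hi => (h i hi).of_iso (nonempty_hobj_iso F X i).some.symm

/-- The map `Hⁿ(RF(X[0])) ⟶ Hⁿ(RF(Y[0]))`. -/
noncomputable abbrev Hmap (n : ℤ) {X Y : A} (f : X ⟶ Y) : Hobj F n X ⟶ Hobj F n Y :=
  (F.rightDerivedFunctorPlus ⋙ DerivedCategory.Plus.homologyFunctor B n).map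
    (DerivedCategory.Plus.Qh.map ((HomotopyCategory.Plus.quotient A).map
      (ObjectProperty.homMk ((CochainComplex.singleFunctor A 0).map f) :
        single₀P X ⟶ single₀P Y)))

theorem epi_hmap_zero_iff [PreservesFiniteLimits F] {X Y : A} (f : X ⟶ Y) (hX : Acyc F X)
    (hY : Acyc F Y) : Epi (Hmap F 0 f) ↔ Epi (F.map f) := by
  haveI := (isIso_unit_single₀P_iff F X).2 ⟨inferInstance, hX⟩
  haveI := (isIso_unit_single₀P_iff F Y).2 ⟨inferInstance, hY⟩
  let m : single₀P X ⟶ single₀P Y := ObjectProperty.homMk ((CochainComplex.singleFunctor A 0).map f)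
  let u : ∀ Z, _ := fun Z => F.rightDerivedFunctorPlusUnit.app
    ((HomotopyCategory.Plus.quotient A).obj (single₀P Z))
  have e1 : Arrow.mk (Hmap F 0 f) ≅
      Arrow.mk ((DerivedCategory.Plus.homologyFunctor B 0).map (DerivedCategory.Plus.Qh.map
        (F.mapHomotopyCategoryPlus.map ((HomotopyCategory.Plus.quotient A).map m)))) :=
    (DerivedCategory.Plus.homologyFunctor B 0).mapArrow.mapIso
      (Arrow.isoMk (asIso (u X)) (asIso (u Y))
        (F.rightDerivedFunctorPlusUnit.naturality ((HomotopyCategory.Plus.quotient A).map m)).symm :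
        Arrow.mk (DerivedCategory.Plus.Qh.map
          (F.mapHomotopyCategoryPlus.map ((HomotopyCategory.Plus.quotient A).map m))) ≅
        Arrow.mk (F.rightDerivedFunctorPlus.map
          (DerivedCategory.Plus.Qh.map ((HomotopyCategory.Plus.quotient A).map m)))).symm
  let e2 : CochainComplex.singleFunctor A 0 ⋙ F.mapHomologicalComplex (ComplexShape.up ℤ) ⋙
      DerivedCategory.Q ⋙ DerivedCategory.homologyFunctor B 0 ≅ F :=
    Functor.isoWhiskerLeft (CochainComplex.singleFunctor A 0)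
        (Functor.isoWhiskerLeft _ (DerivedCategory.homologyFunctorFactors B 0)) ≪≫
      (Functor.associator _ _ _).symm ≪≫
      Functor.isoWhiskerRight (HomologicalComplex.singleMapHomologicalComplex F _ 0) _ ≪≫
      Functor.associator _ _ _ ≪≫
      Functor.isoWhiskerLeft F (HomologicalComplex.homologyFunctorSingleIso B _ 0) ≪≫
      F.rightUnitor
  have e3 : Arrow.mk ((DerivedCategory.Plus.homologyFunctor B 0).map (DerivedCategory.Plus.Qh.map
        (F.mapHomotopyCategoryPlus.map ((HomotopyCategory.Plus.quotient A).map m)))) ≅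
      Arrow.mk (F.map f) :=
    Arrow.isoOfNatIso (Functor.isoWhiskerLeft (CochainComplex.singleFunctor A 0 ⋙
      F.mapHomologicalComplex (ComplexShape.up ℤ))
      (Functor.isoWhiskerRight (DerivedCategory.quotientCompQhIso B)
        (DerivedCategory.homologyFunctor B 0))) (Arrow.mk f) ≪≫
    Arrow.isoOfNatIso e2 (Arrow.mk f)
  exact (MorphismProperty.epimorphisms B).arrow_mk_iso_iff (e1 ≪≫ e3)

/-- The long exact sequence, as needed. -/
theorem les (S : ShortComplex A) (hS : S.ShortExact) (n m : ℕ) (hnm : n + 1 = m) :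
    ∃ (w : Hmap F (n : ℤ) S.f ≫ Hmap F (n : ℤ) S.g = 0) (δ : Hobj F (n : ℤ) S.X₃ ⟶ Hobj F (m : ℤ) S.X₁)
      (w₂ : Hmap F (n : ℤ) S.g ≫ δ = 0) (w₃ : δ ≫ Hmap F (m : ℤ) S.f = 0),
      (ShortComplex.mk _ _ w).Exact ∧ (ShortComplex.mk _ _ w₂).Exact ∧
      (ShortComplex.mk _ _ w₃).Exact :=
  DerPlus.LongExact.exact_of_distTriang F _ _
    (DerPlus.LongExact.exists_distTriang (K₁ := single₀P S.X₁) (K₂ := single₀P S.X₂)
      (K₃ := single₀P S.X₃) (ObjectProperty.homMk ((CochainComplex.singleFunctor A 0).map S.f))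
      (ObjectProperty.homMk ((CochainComplex.singleFunctor A 0).map S.g))
      (by simp [← Functor.map_comp, S.zero])
      (hS.map_of_exact (HomologicalComplex.single A (ComplexShape.up ℤ) 0)))
    _ _ (by omega)

theorem acyc₂ (S : ShortComplex A) (hS : S.ShortExact) (h₁ : Acyc F S.X₁) (h₃ : Acyc F S.X₃) :
    Acyc F S.X₂ := acyc_of_isZero_hobj F fun i hi => by
  obtain ⟨w, δ, w₂, w₃, x₁, -, -⟩ := les F S hS i (i + 1) rfl
  exact x₁.isZero_of_both_zeros ((isZero_hobj F h₁ hi).eq_of_src _ _)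
    ((isZero_hobj F h₃ hi).eq_of_tgt _ _)

theorem acyc₃ (S : ShortComplex A) (hS : S.ShortExact) (h₁ : Acyc F S.X₁) (h₂ : Acyc F S.X₂) :
    Acyc F S.X₃ := acyc_of_isZero_hobj F fun i hi => by
  obtain ⟨w, δ, w₂, w₃, -, x₂, -⟩ := les F S hS i (i + 1) rfl
  exact x₂.isZero_of_both_zeros ((isZero_hobj F h₂ hi).eq_of_src _ _)
    ((isZero_hobj F h₁ (Nat.succ_pos i)).eq_of_tgt _ _)

theorem acyc₁ [PreservesFiniteLimits F] (S : ShortComplex A) (hS : S.ShortExact)
    (h₂ : Acyc F S.X₂) (h₃ : Acyc F S.X₃) [Epi (F.map S.g)] :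
    Acyc F S.X₁ := acyc_of_isZero_hobj F fun i hi => by
  obtain ⟨j, rfl⟩ : ∃ j, i = j + 1 := ⟨i - 1, by omega⟩
  obtain ⟨w, δ, w₂, w₃, -, x₂, x₃⟩ := les F S hS j (j + 1) rfl
  refine x₃.isZero_of_both_zeros ?_ ((isZero_hobj F h₂ (Nat.succ_pos j)).eq_of_tgt _ _)
  rcases Nat.eq_zero_or_pos j with rfl | hj
  · haveI : Epi (Hmap F (0 : ℕ) S.g) := (epi_hmap_zero_iff F S.g h₂ h₃).2 inferInstance
    exact zero_of_epi_comp _ w₂
  · exact (isZero_hobj F h₃ hj).eq_of_src _ _

theorem shortExact_map [PreservesFiniteLimits F] (S : ShortComplex A) (hS : S.ShortExact)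
    (h₁ : Acyc F S.X₁) (h₂ : Acyc F S.X₂) (h₃ : Acyc F S.X₃) : (S.map F).ShortExact := by
  haveI := hS.mono_f
  obtain ⟨w, δ, w₂, w₃, -, x₂, -⟩ := les F S hS 0 1 rfl
  haveI : Epi (Hmap F (0 : ℕ) S.g) :=
    x₂.epi_f ((isZero_hobj F h₁ Nat.one_pos).eq_of_tgt _ _)
  haveI : Epi (S.map F).g := (epi_hmap_zero_iff F S.g h₂ h₃).1 ‹_›
  haveI : Mono (S.map F).f := inferInstanceAs (Mono (F.map S.f))
  exact { exact := ShortComplex.exact_of_f_is_kernel _
            (KernelFork.mapIsLimit _ hS.fIsKernel F) }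

end

theorem acyc_shortExact (F : A ⥤ B) [F.Additive] [PreservesFiniteLimits F] (S : ShortComplex A)
    (hS : S.ShortExact) (h₁ : Acyc F S.X₁) (h₂ : Acyc F S.X₂) :
    Acyc F S.X₃ ∧ (S.map F).ShortExact := by
  letI := HasDerivedCategory.standard A
  letI := HasDerivedCategory.standard B
  have h₃ := acyc₃ F S hS h₁ h₂
  exact ⟨h₃, shortExact_map F S hS h₁ h₂ h₃⟩

end Groth.Agent.RFPlus
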