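import Mathlib.Algebra.Homology.DerivedCategory.KInjective
import Mathlib.Algebra.Homology.ShortComplex.ExactFunctor
import Mathlib.CategoryTheory.Preadditive.Injective.Basic
import Mathlib.CategoryTheory.Abelian.Exact

/-!
An additive functor maps a bounded below acyclic complex to an acyclic complex provided it is exact
on the short exact sequences of cycles, propagated along a class of objects.
-/

set_option autoImplicit false

universe v v' u u'

open CategoryTheory CategoryTheory.Limits

namespace Groth.Agent.RFPlus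

variable {A : Type u} [Category.{v} A] [Abelian A] {B : Type u'} [Category.{v'} B] [Abelian B]

theorem acyclic_mappingCone_iff {K K' : CochainComplex A ℤ} (φ : K ⟶ K') :
    (CochainComplex.mappingCone φ).Acyclic ↔ QuasiIso φ := by
  have h := (HomotopyCategory.subcategoryAcyclic A).trW_iff_of_distinguished _
    (HomotopyCategory.mappingCone_triangleh_distinguished φ)
  rw [← HomotopyCategory.quotient_obj_mem_subcategoryAcyclic_iff_acyclic,
    ← HomologicalComplex.mem_quasiIso_iff, ← HomotopyCategory.quotient_map_mem_quasiIso_iff,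
    HomotopyCategory.quasiIso_eq_trW_subcategoryAcyclic]
  exact h.symm

/-- The short complex `Zⁿ → Kⁿ → Zⁿ⁺¹`. -/
noncomputable abbrev cyclesSc (K : CochainComplex A ℤ) (n : ℤ) : ShortComplex A :=
  ShortComplex.mk (K.iCycles n) (K.toCycles n (n + 1))
    (by rw [← cancel_mono (K.iCycles (n + 1)), Category.assoc, HomologicalComplex.toCycles_i,
      HomologicalComplex.iCycles_d, zero_comp])

theorem shortExact_cyclesSc (K : CochainComplex A ℤ) (hK : K.Acyclic) (n : ℤ) :
    (cyclesSc K n).ShortExact where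
  exact := by
    apply ShortComplex.exact_of_f_is_kernel
    refine KernelFork.IsLimit.ofι' _ _ fun {W} k hk => ⟨K.liftCycles k (n + 1) (by simp) (by
      rw [← K.toCycles_i n (n + 1), reassoc_of% hk, zero_comp]), by simp⟩
  mono_f := inferInstanceAs (Mono (K.iCycles n))
  epi_g := by
    have h := hK (n + 1)
    rw [HomologicalComplex.exactAt_iff' K n (n + 1) (n + 1 + 1) (by simp) (by simp)] at h
    have h' := hK (n + 1)
    rw [HomologicalComplex.exactAt_iff_isZero_homology] at h'
    exact ShortComplex.Exact.epi_f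
      (S := ShortComplex.mk (K.toCycles n (n + 1)) (K.homologyπ (n + 1)) (K.toCycles_comp_homologyπ _ _))
      (ShortComplex.exact_of_g_is_cokernel _ (K.homologyIsCokernel n (n + 1) (by simp)))
      (h'.eq_of_tgt _ _)

theorem acyclic_map (F : A ⥤ B) [F.Additive] (P : A → Prop)
    (hP : ∀ {X Y : A}, (X ≅ Y) → P X → P Y) (K : CochainComplex A ℤ) (a : ℤ)
    [K.IsStrictlyGE a] (hK : K.Acyclic) (h0 : P (K.X a))
    (h : ∀ n : ℤ, a < n → ∀ S : ShortComplex A, S.ShortExact → P S.X₁ → (S.X₂ ≅ K.X n) →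
      P S.X₃ ∧ (S.map F).ShortExact) :
    ((F.mapHomologicalComplex (ComplexShape.up ℤ)).obj K).Acyclic := by
  have hz : ∀ n : ℤ, n ≤ a → IsZero (K.cycles n) := fun n hn => by
    rw [IsZero.iff_id_eq_zero]
    rcases lt_or_eq_of_le hn with hn | rfl
    · rw [← cancel_mono (K.iCycles n)]
      exact (K.isZero_of_isStrictlyGE a n hn).eq_of_tgt _ _
    · have h' := hK n
      rw [HomologicalComplex.exactAt_iff' K (n - 1) n (n + 1) (by simp) (by simp)] at h'
      haveI : Mono (K.d n (n + 1)) :=
        h'.mono_g ((K.isZero_of_isStrictlyGE n (n - 1) (by lia)).eq_of_src _ _)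
      rw [← cancel_mono (K.iCycles n), ← cancel_mono (K.d n (n + 1))]
      simp
  have hsplit : ∀ n : ℤ, n ≤ a → ((cyclesSc K n).map F).ShortExact := fun n hn => by
    haveI : Injective (cyclesSc K n).X₁ := (hz n hn).injective
    exact ((shortExact_cyclesSc K hK n).splittingOfInjective.map F).shortExact
  have key : ∀ k : ℕ, P (K.cycles (a + k + 1)) ∧ ((cyclesSc K (a + k)).map F).ShortExact := by
    intro k
    induction k with
    | zero =>
      refine ⟨?_, hsplit _ (by simp)⟩
      have h1 := shortExact_cyclesSc K hK a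
      haveI : Mono (cyclesSc K a).g := h1.exact.mono_g ((hz a le_rfl).eq_of_src _ _)
      haveI : Epi (cyclesSc K a).g := h1.epi_g
      haveI := isIso_of_mono_of_epi (cyclesSc K a).g
      rw [Nat.cast_zero, add_zero]
      exact hP (asIso (cyclesSc K a).g) h0
    | succ k ih =>
      have e : a + k + 1 = a + ((k + 1 : ℕ) : ℤ) := by push_cast; ring
      rw [← e]
      exact h (a + k + 1) (by lia) _ (shortExact_cyclesSc K hK _) ih.1 (Iso.refl _)
  have hall : ∀ n : ℤ, ((cyclesSc K n).map F).ShortExact := fun n => by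
    by_cases hn : n ≤ a
    · exact hsplit n hn
    · obtain ⟨k, hk⟩ : ∃ k : ℕ, n = a + k := ⟨(n - a).toNat, by lia⟩
      rw [hk]
      exact (key k).2
  intro n
  obtain ⟨m, rfl⟩ : ∃ m : ℤ, n = m + 1 := ⟨n - 1, by ring⟩
  rw [HomologicalComplex.exactAt_iff' _ m (m + 1) (m + 1 + 1) (by simp) (by simp)]
  let M : ShortComplex B := ShortComplex.mk (F.map (K.d m (m + 1)))
    (F.map (K.toCycles (m + 1) (m + 1 + 1))) (by
      rw [← F.map_comp, ← K.toCycles_i m (m + 1), Category.assoc,
        (cyclesSc K (m + 1)).zero, comp_zero, F.map_zero])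
  let φ : M ⟶ (cyclesSc K (m + 1)).map F :=
    { τ₁ := F.map (K.toCycles m (m + 1))
      τ₂ := 𝟙 _
      τ₃ := 𝟙 _
      comm₁₂ := by
        change F.map _ ≫ F.map _ = F.map _ ≫ 𝟙 _
        rw [Category.comp_id, ← F.map_comp, K.toCycles_i]
      comm₂₃ := by
        change 𝟙 _ ≫ F.map _ = F.map _ ≫ 𝟙 _
        rw [Category.id_comp, Category.comp_id] }
  let ψ : M ⟶ ((F.mapHomologicalComplex (ComplexShape.up ℤ)).obj K).sc' m (m + 1) (m + 1 + 1) :=
    { τ₁ := 𝟙 _
      τ₂ := 𝟙 _
      τ₃ := F.map (K.iCycles (m + 1 + 1))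
      comm₁₂ := by
        change 𝟙 _ ≫ F.map _ = F.map _ ≫ 𝟙 _
        rw [Category.id_comp, Category.comp_id]
      comm₂₃ := by
        change 𝟙 _ ≫ F.map _ = F.map _ ≫ F.map _
        rw [Category.id_comp, ← F.map_comp, K.toCycles_i] }
  haveI : Epi φ.τ₁ := (hall m).epi_g
  haveI : IsIso φ.τ₂ := inferInstanceAs (IsIso (𝟙 _))
  haveI : Mono φ.τ₃ := inferInstanceAs (Mono (𝟙 _))
  haveI : Epi ψ.τ₁ := inferInstanceAs (Epi (𝟙 _))
  haveI : IsIso ψ.τ₂ := inferInstanceAs (IsIso (𝟙 _))
  haveI : Mono ψ.τ₃ := (hall (m + 1 + 1)).mono_f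
  rw [← ShortComplex.exact_iff_of_epi_of_isIso_of_mono ψ,
    ShortComplex.exact_iff_of_epi_of_isIso_of_mono φ]
  exact (hall (m + 1)).exact

end Groth.Agent.RFPlus
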