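import Groth.Agent.RFPlus.Single
import Mathlib.CategoryTheory.Retract

/-!
Adapted classes: objects in such a class are right acyclic.
-/

set_option autoImplicit false

universe w w' v v' u u'

open CategoryTheory CategoryTheory.Limits

namespace Groth.Agent.RFPlus

variable {A : Type u} [Category.{v} A] [Abelian A]
  {B : Type u'} [Category.{v'} B] [Abelian B] (F : A ⥤ B) [F.Additive]

/-- A retract of a short exact short complex is short exact. -/
theorem shortExact_of_retract {S T : ShortComplex A} (r : Retract S T) (hT : T.ShortExact) :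
    S.ShortExact where
  exact := by
    rw [ShortComplex.exact_iff_isZero_homology]
    have h := (ShortComplex.exact_iff_isZero_homology T).1 hT.exact
    rw [IsZero.iff_id_eq_zero, ← ShortComplex.homologyMap_id, ← r.retract,
      ShortComplex.homologyMap_comp, h.eq_of_tgt (ShortComplex.homologyMap r.i) 0, zero_comp]
  mono_f := ⟨fun a b hab => by
    haveI := hT.mono_f
    have e := congrArg ShortComplex.Hom.τ₁ r.retract
    simp only [ShortComplex.comp_τ₁, ShortComplex.id_τ₁] at e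
    rw [← Category.comp_id a, ← Category.comp_id b, ← e, ← Category.assoc, ← Category.assoc]
    congr 1
    rw [← cancel_mono T.f, Category.assoc, Category.assoc, r.i.comm₁₂, reassoc_of% hab]⟩
  epi_g := ⟨fun a b hab => by
    haveI := hT.epi_g
    have e := congrArg ShortComplex.Hom.τ₃ r.retract
    simp only [ShortComplex.comp_τ₃, ShortComplex.id_τ₃] at e
    rw [← Category.id_comp a, ← Category.id_comp b, ← e, Category.assoc, Category.assoc]
    congr 1
    rw [← cancel_epi T.g, ← r.r.comm₂₃_assoc, ← r.r.comm₂₃_assoc, hab]⟩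

/-- Map between the cokernel sequences of two monomorphisms. -/
noncomputable def cokerMap {X₁ Y₁ X₂ Y₂ : A} (f₁ : X₁ ⟶ Y₁) (f₂ : X₂ ⟶ Y₂) (p : X₁ ⟶ X₂)
    (q : Y₁ ⟶ Y₂) (h : p ≫ f₂ = f₁ ≫ q) :
    ShortComplex.mk f₁ (cokernel.π f₁) (cokernel.condition f₁) ⟶
      ShortComplex.mk f₂ (cokernel.π f₂) (cokernel.condition f₂) where
  τ₁ := p
  τ₂ := q
  τ₃ := cokernel.map f₁ f₂ p q h.symm
  comm₁₂ := h
  comm₂₃ := by simp [cokernel.π_desc]

theorem hom_ext_of_epi {S T : ShortComplex A} (f g : S ⟶ T) [Epi S.g] (h₁ : f.τ₁ = g.τ₁)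
    (h₂ : f.τ₂ = g.τ₂) : f = g := by
  ext
  · exact h₁
  · exact h₂
  · rw [← cancel_epi S.g, ← f.comm₂₃, ← g.comm₂₃, h₂]

/-- The class of retracts of objects of `I`. -/
def Retr (I : ObjectProperty A) (X : A) : Prop := ∃ Y : A, I Y ∧ Nonempty (Retract X Y)

theorem retr_cokernel (I : ObjectProperty A) (h1 : ∀ X : A, ∃ (Y : A) (ι : X ⟶ Y), I Y ∧ Mono ι)
    (h2 : ∀ S : ShortComplex A, S.ShortExact → I S.X₁ → I S.X₂ → I S.X₃ ∧ (S.map F).ShortExact)
    [EnoughInjectives A] (S : ShortComplex A) (hS : S.ShortExact) (hX : Retr I S.X₁)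
    (hJ : Injective S.X₂) : Retr I S.X₃ ∧ (S.map F).ShortExact := by
  obtain ⟨X₀, hX₀, ⟨r⟩⟩ := hX
  haveI := hS.mono_f
  haveI := hS.epi_g
  let ι₀ := Injective.ι X₀
  let ι₁ : X₀ ⟶ Injective.under X₀ ⊞ S.X₂ := biprod.lift ι₀ (r.r ≫ S.f)
  haveI : Mono ι₁ := mono_of_mono_fac (biprod.lift_fst ι₀ (r.r ≫ S.f))
  obtain ⟨Y, κ, hY, hκ⟩ := h1 (Injective.under X₀ ⊞ S.X₂)
  let T := ShortComplex.mk (ι₁ ≫ κ) (cokernel.π (ι₁ ≫ κ)) (cokernel.condition _)
  haveI : Mono T.f := inferInstanceAs (Mono (ι₁ ≫ κ))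
  have hT : T.ShortExact :=
    { exact := ShortComplex.exact_of_g_is_cokernel _ (cokernelIsCokernel (ι₁ ≫ κ))
      mono_f := inferInstance
      epi_g := inferInstanceAs (Epi (cokernel.π (ι₁ ≫ κ))) }
  obtain ⟨h3, hTF⟩ := h2 T hT hX₀ hY
  let t : S.X₂ ⟶ Injective.under X₀ ⊞ S.X₂ := biprod.lift (Injective.factorThru (r.i ≫ ι₀) S.f) (𝟙 _)
  haveI : Injective (Injective.under X₀ ⊞ S.X₂) := inferInstance
  let s : Y ⟶ Injective.under X₀ ⊞ S.X₂ := Injective.factorThru (𝟙 _) κ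
  let i : S ⟶ T :=
    { τ₁ := r.i
      τ₂ := t ≫ κ
      τ₃ := hS.exact.desc (t ≫ κ ≫ cokernel.π (ι₁ ≫ κ)) (by
        have : S.f ≫ t = r.i ≫ ι₁ := by
          ext <;> simp [t, ι₁, r.retract_assoc, Injective.comp_factorThru]
        rw [reassoc_of% this]
        simp [← Category.assoc ι₁ κ])
      comm₁₂ := by
        change r.i ≫ ι₁ ≫ κ = S.f ≫ t ≫ κ
        rw [← Category.assoc, ← Category.assoc]
        congr 1
        ext <;> simp [t, ι₁, r.retract_assoc, Injective.comp_factorThru]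
      comm₂₃ := by simp [T] }
  let q : T ⟶ S :=
    { τ₁ := r.r
      τ₂ := s ≫ biprod.snd
      τ₃ := cokernel.desc _ (s ≫ biprod.snd ≫ S.g) (by
        simp [s, ι₁, Injective.comp_factorThru_assoc])
      comm₁₂ := by
        simp [T, s, ι₁, Injective.comp_factorThru_assoc]
      comm₂₃ := by simp [T] }
  let R : Retract S T := ⟨i, q, hom_ext_of_epi _ _ r.retract (by
    simp [i, q, t, s, Injective.comp_factorThru_assoc])⟩
  refine ⟨⟨T.X₃, h3, ⟨⟨i.τ₃, q.τ₃, ?_⟩⟩⟩, shortExact_of_retract (R.map F.mapShortComplex) hTF⟩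
  exact congrArg ShortComplex.Hom.τ₃ R.retract

theorem retr_iso (I : ObjectProperty A) {X Y : A} (e : X ≅ Y) (h : Retr I X) : Retr I Y := by
  obtain ⟨Z, hZ, ⟨r⟩⟩ := h
  exact ⟨Z, hZ, ⟨(Retract.ofIso e.symm).trans r⟩⟩

end Groth.Agent.RFPlus
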