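import Mathlib.Algebra.Homology.DerivedCategory.RightDerivedFunctorPlus
import Mathlib.CategoryTheory.Abelian.RightDerived
import Mathlib.CategoryTheory.Abelian.Injective.Extend
import Groth.Agent.RFPlus.Acyclic
import Groth.Agent.CxRes.Basic

/-!
Computation of the bounded below right derived functor on complexes via injective resolutions.
-/

set_option autoImplicit false

universe w w' v v' u u'

open CategoryTheory CategoryTheory.Limits

namespace Groth.Agent.RFPlus

variable {A : Type u} [Category.{v} A] [Abelian A] [HasDerivedCategory.{w} A]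
  {B : Type u'} [Category.{v'} B] [Abelian B] [HasDerivedCategory.{w'} B]

theorem isIso_Qh_map_iff {K L : CochainComplex.Plus B} (f : K ⟶ L) :
    IsIso (DerivedCategory.Plus.Qh.map ((HomotopyCategory.Plus.quotient B).map f)) ↔
      QuasiIso f.hom := by
  rw [← isIso_iff_of_reflects_iso _ DerivedCategory.Plus.ι,
    ← DerivedCategory.isIso_Q_map_iff_quasiIso]
  exact (NatIso.isIso_map_iff (DerivedCategory.quotientCompQhIso B) f.hom)

variable [EnoughInjectives A] (F : A ⥤ B) [F.Additive]

theorem isIso_unit_of_injective (I : CochainComplex.Plus A) (hI : ∀ n, Injective (I.obj.X n)) :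
    IsIso (F.rightDerivedFunctorPlusUnit.app ((HomotopyCategory.Plus.quotient A).obj I)) := by
  haveI : ∀ n, Injective (((HomotopyCategory.Plus.quotient A).obj I).obj.as.X n) := hI
  infer_instance

/-- The unit at `K` is an isomorphism iff `F` preserves one injective resolution of `K`. -/
theorem isIso_unit_iff {K I : CochainComplex.Plus A} (φ : K ⟶ I) (hφ : QuasiIso φ.hom)
    (hI : ∀ n, Injective (I.obj.X n)) :
    IsIso (F.rightDerivedFunctorPlusUnit.app ((HomotopyCategory.Plus.quotient A).obj K)) ↔
      QuasiIso ((F.mapHomologicalComplex (ComplexShape.up ℤ)).map φ.hom) := by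
  haveI := (isIso_Qh_map_iff φ).2 hφ
  haveI := isIso_unit_of_injective F I hI
  have hn := F.rightDerivedFunctorPlusUnit.naturality ((HomotopyCategory.Plus.quotient A).map φ)
  simp only [Functor.comp_map] at hn
  have h1 : IsIso (F.rightDerivedFunctorPlusUnit.app ((HomotopyCategory.Plus.quotient A).obj K)) ↔
      IsIso (DerivedCategory.Plus.Qh.map
        (F.mapHomotopyCategoryPlus.map ((HomotopyCategory.Plus.quotient A).map φ))) := by
    constructor
    · intro h
      have : IsIso (DerivedCategory.Plus.Qh.map
        (F.mapHomotopyCategoryPlus.map ((HomotopyCategory.Plus.quotient A).map φ)) ≫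
          F.rightDerivedFunctorPlusUnit.app ((HomotopyCategory.Plus.quotient A).obj I)) := by
        rw [hn]; infer_instance
      exact IsIso.of_isIso_comp_right _ (F.rightDerivedFunctorPlusUnit.app _)
    · intro h
      have : IsIso (F.rightDerivedFunctorPlusUnit.app ((HomotopyCategory.Plus.quotient A).obj K) ≫
          F.rightDerivedFunctorPlus.map
            (DerivedCategory.Plus.Qh.map ((HomotopyCategory.Plus.quotient A).map φ))) := by
        rw [← hn]; infer_instance
      exact IsIso.of_isIso_comp_right _ (F.rightDerivedFunctorPlus.map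
        (DerivedCategory.Plus.Qh.map ((HomotopyCategory.Plus.quotient A).map φ)))
  rw [h1]
  exact isIso_Qh_map_iff (B := B) (F.mapCochainComplexPlus.map φ)

/-- Every bounded below complex has a resolution by injectives. -/
theorem exists_injective (K : CochainComplex.Plus A) (a : ℤ) [K.obj.IsStrictlyGE a] :
    ∃ (I : CochainComplex.Plus A) (φ : K ⟶ I), I.obj.IsStrictlyGE a ∧
      (∀ n, Injective (I.obj.X n)) ∧ QuasiIso φ.hom := by
  obtain ⟨L, hL, i, hi⟩ := CochainComplex.Plus.exists_quasiIso_injective K a
  exact ⟨_, i, (CochainComplex.isStrictlyGE_mapHomologicalComplex_obj_iff L.obj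
    (InjectiveObject.ι A) a).2 hL, fun n => inferInstanceAs (Injective (L.obj.X n).obj), hi⟩

/-- Acyclicity criterion for the unit: `F` exact on the cycles of the cone of a resolution. -/
theorem isIso_unit_of_class (P : A → Prop) (hP : ∀ {X Y : A}, (X ≅ Y) → P X → P Y)
    (K : CochainComplex.Plus A) (a : ℤ) [K.obj.IsStrictlyGE a]
    (h0 : ∀ (J : A), Injective J → IsZero J → P (K.obj.X a ⊞ J))
    (h : ∀ n : ℤ, a < n → ∀ J : A, Injective J → ∀ S : ShortComplex A, S.ShortExact → P S.X₁ →
      (S.X₂ ≅ K.obj.X n ⊞ J) → P S.X₃ ∧ (S.map F).ShortExact) :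
    IsIso (F.rightDerivedFunctorPlusUnit.app ((HomotopyCategory.Plus.quotient A).obj K)) := by
  obtain ⟨I, φ, hI', hI, hφ⟩ := exists_injective K a
  rw [isIso_unit_iff F φ hφ hI, ← acyclic_mappingCone_iff]
  have : ((F.mapHomologicalComplex _).obj (CochainComplex.mappingCone φ.hom)).Acyclic := by
    haveI := CochainComplex.isStrictlyGE_mappingCone φ.hom a a (a - 1) (by lia) (by lia)
    refine acyclic_map F P hP _ (a - 1) ((acyclic_mappingCone_iff φ.hom).2 hφ) ?_ ?_
    · exact hP (HomologicalComplex.homotopyCofiber.XIsoBiprod φ.hom (a - 1) a (by simp)).symm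
        (h0 _ (hI _) (I.obj.isZero_of_isStrictlyGE a _ (by lia)))
    · intro n hn S hS h1 e
      refine h (n + 1) (by lia) (I.obj.X n) (hI n) S hS h1 ?_
      exact e ≪≫ HomologicalComplex.homotopyCofiber.XIsoBiprod φ.hom n (n + 1) rfl
  intro n
  exact (this n).of_iso (CochainComplex.mappingCone.mapHomologicalComplexIso φ.hom F)

theorem isGE_obj (K : DerivedCategory.Plus A) (a : ℤ) [K.IsGE a] :
    (F.rightDerivedFunctorPlus.obj K).IsGE a := by
  obtain ⟨L, hL, ⟨e⟩⟩ := DerivedCategory.Plus.exists_injective_nonempty_iso K a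
  have hI := isIso_unit_of_injective F ((InjectiveObject.ι A).mapCochainComplexPlus.obj L)
    fun n => inferInstanceAs (Injective (L.obj.X n).obj)
  let e' := asIso (F.rightDerivedFunctorPlusUnit.app ((HomotopyCategory.Plus.quotient A).obj
    ((InjectiveObject.ι A).mapCochainComplexPlus.obj L))) ≪≫ F.rightDerivedFunctorPlus.mapIso e
  haveI h2 : ((InjectiveObject.ι A).mapCochainComplexPlus.obj L).obj.IsStrictlyGE a :=
    (CochainComplex.isStrictlyGE_mapHomologicalComplex_obj_iff L.obj (InjectiveObject.ι A) a).2 hL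
  haveI : CochainComplex.IsStrictlyGE ((F.mapHomologicalComplex (ComplexShape.up ℤ)).obj
    ((InjectiveObject.ι A).mapCochainComplexPlus.obj L).obj) a := inferInstance
  rw [← DerivedCategory.Plus.isGE_ι_obj_iff]
  haveI hQ : DerivedCategory.TStructure.t.IsGE (DerivedCategory.Q.obj
      ((F.mapHomologicalComplex (ComplexShape.up ℤ)).obj
        ((InjectiveObject.ι A).mapCochainComplexPlus.obj L).obj)) a :=
    inferInstanceAs ((DerivedCategory.Q.obj _).IsGE a)
  exact @Triangulated.TStructure.isGE_of_iso _ _ _ _ _ _ _ DerivedCategory.TStructure.t _ _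
    (((DerivedCategory.quotientCompQhIso B).app _).symm ≪≫ DerivedCategory.Plus.ι.mapIso e') a hQ

end Groth.Agent.RFPlus
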