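import Groth.Agent.RFPlus.Basic

/-!
The unit of the right derived functor at a single complex, in terms of `F.rightDerived`.
-/

set_option autoImplicit false

universe w w' v v' u u'

open CategoryTheory CategoryTheory.Limits

namespace Groth.Agent.RFPlus

section

variable {A : Type u} [Category.{v} A] [Abelian A] {B : Type u'} [Category.{v'} B] [Abelian B]
  (F : A ⥤ B) [F.Additive]

/-- `F (X o) ≅ (F X) o` for the extension by zero. -/
noncomputable def mapExtendXIso (K : CochainComplex A ℕ) :
    ∀ o : Option ℕ, F.obj (HomologicalComplex.extend.X K o) ≅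
      HomologicalComplex.extend.X ((F.mapHomologicalComplex (ComplexShape.up ℕ)).obj K) o
  | some k => Iso.refl (F.obj (K.X k))
  | none => (F.map_isZero (isZero_zero A)).iso (isZero_zero B)

theorem mapExtendXIso_d (K : CochainComplex A ℕ) : ∀ o o' : Option ℕ,
    (mapExtendXIso F K o).hom ≫
      HomologicalComplex.extend.d ((F.mapHomologicalComplex (ComplexShape.up ℕ)).obj K) o o' =
    F.map (HomologicalComplex.extend.d K o o') ≫ (mapExtendXIso F K o').hom
  | some i, some j => (Category.id_comp _).trans (Category.comp_id _).symm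
  | none, _ => (F.map_isZero (isZero_zero A)).eq_of_src _ _
  | some _, none => (isZero_zero B).eq_of_tgt _ _

theorem mapExtendXIso_f {K L : CochainComplex A ℕ} (f : K ⟶ L) : ∀ o : Option ℕ,
    F.map (HomologicalComplex.extend.mapX f o) ≫ (mapExtendXIso F L o).hom =
      (mapExtendXIso F K o).hom ≫
        HomologicalComplex.extend.mapX ((F.mapHomologicalComplex (ComplexShape.up ℕ)).map f) o
  | some _ => (Category.comp_id _).trans (Category.id_comp _).symm
  | none => (isZero_zero B).eq_of_tgt _ _

noncomputable def mapExtendIso (K : CochainComplex A ℕ) :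
    (F.mapHomologicalComplex (ComplexShape.up ℤ)).obj (K.extend ComplexShape.embeddingUpNat) ≅
      ((F.mapHomologicalComplex (ComplexShape.up ℕ)).obj K).extend ComplexShape.embeddingUpNat :=
  HomologicalComplex.Hom.isoOfComponents (fun i => mapExtendXIso F K _)
    (fun i j _ => mapExtendXIso_d F K _ _)

theorem quasiIso_map_extendMap_iff {K L : CochainComplex A ℕ} (f : K ⟶ L) :
    QuasiIso ((F.mapHomologicalComplex (ComplexShape.up ℤ)).map
      (HomologicalComplex.extendMap f ComplexShape.embeddingUpNat)) ↔
      QuasiIso ((F.mapHomologicalComplex (ComplexShape.up ℕ)).map f) := by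
  rw [← HomologicalComplex.quasiIso_extendMap_iff _ ComplexShape.embeddingUpNat]
  refine (HomologicalComplex.quasiIso B (ComplexShape.up ℤ)).arrow_mk_iso_iff
    (Arrow.isoMk (mapExtendIso F K) (mapExtendIso F L) ?_)
  ext i
  exact (mapExtendXIso_f F f _).symm

theorem quasiIsoAt_map_ι_zero_iff [HasInjectiveResolutions A] {X : A}
    (R : InjectiveResolution X) :
    QuasiIsoAt ((F.mapHomologicalComplex (ComplexShape.up ℕ)).map R.ι) 0 ↔
      IsIso (F.toRightDerivedZero.app X) := by
  haveI : IsIso (((F.mapHomologicalComplex (ComplexShape.up ℕ)).obj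
      ((CochainComplex.single₀ A).obj X)).iCycles 0) :=
    HomologicalComplex.isIso_iCycles _ 0 1 (by simp) (by
      change F.map _ = 0; simp only [HomologicalComplex.single_obj_d, F.map_zero])
  have h : HomologicalComplex.cyclesMap ((F.mapHomologicalComplex (ComplexShape.up ℕ)).map R.ι) 0 =
      ((F.mapHomologicalComplex (ComplexShape.up ℕ)).obj
        ((CochainComplex.single₀ A).obj X)).iCycles 0 ≫ R.toRightDerivedZero' F := by
    rw [← cancel_mono (((F.mapHomologicalComplex (ComplexShape.up ℕ)).obj R.cocomplex).iCycles 0),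
      HomologicalComplex.cyclesMap_i, Category.assoc]
    erw [InjectiveResolution.toRightDerivedZero'_comp_iCycles]
    rfl
  rw [quasiIsoAt_iff_isIso_homologyMap, R.toRightDerivedZero_eq F, ← Category.assoc,
    isIso_comp_right_iff, isIso_comp_right_iff]
  haveI : IsIso (((F.mapHomologicalComplex (ComplexShape.up ℕ)).obj
      ((CochainComplex.single₀ A).obj X)).homologyπ 0) :=
    HomologicalComplex.isIso_homologyπ _ _ 0 (CochainComplex.prev_nat_zero) (by simp)
  rw [← isIso_comp_left_iff (((F.mapHomologicalComplex (ComplexShape.up ℕ)).obj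
      ((CochainComplex.single₀ A).obj X)).homologyπ 0),
    HomologicalComplex.homologyπ_naturality, isIso_comp_right_iff, h, isIso_comp_left_iff]
  rfl

theorem quasiIsoAt_map_ι_succ_iff [HasInjectiveResolutions A] {X : A} (R : InjectiveResolution X)
    (n : ℕ) (hn : 0 < n) :
    QuasiIsoAt ((F.mapHomologicalComplex (ComplexShape.up ℕ)).map R.ι) n ↔
      IsZero ((F.rightDerived n).obj X) := by
  rw [quasiIsoAt_iff_exactAt, HomologicalComplex.exactAt_iff_isZero_homology,
    (R.isoRightDerivedObj F n).isZero_iff]
  · rfl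
  · exact ShortComplex.exact_of_isZero_X₂ _
      (F.map_isZero (HomologicalComplex.isZero_single_obj_X _ _ _ _ hn.ne'))

end

variable {A : Type u} [Category.{v} A] [Abelian A] [HasDerivedCategory.{w} A] [EnoughInjectives A]
  {B : Type u'} [Category.{v'} B] [Abelian B] [HasDerivedCategory.{w'} B] (F : A ⥤ B) [F.Additive]

/-- `X[0]` as a bounded below complex. -/
noncomputable abbrev single₀P (X : A) : CochainComplex.Plus A :=
  ⟨(CochainComplex.singleFunctor A 0).obj X, ⟨0, inferInstance⟩⟩

theorem isIso_unit_single₀P_iff (X : A) :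
    IsIso (F.rightDerivedFunctorPlusUnit.app ((HomotopyCategory.Plus.quotient A).obj (single₀P X))) ↔
      (IsIso (F.toRightDerivedZero.app X) ∧
        ∀ i : ℕ, 0 < i → IsZero ((F.rightDerived i).obj X)) := by
  let R := injectiveResolution X
  let I : CochainComplex.Plus A := ⟨R.cochainComplex, ⟨0, inferInstance⟩⟩
  let φ : single₀P X ⟶ I := ObjectProperty.homMk R.ι'
  rw [isIso_unit_iff F (K := single₀P X) (I := I) φ
    (inferInstanceAs (QuasiIso R.ι')) (fun n => inferInstanceAs (Injective (R.cochainComplex.X n)))]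
  have h1 : QuasiIso ((F.mapHomologicalComplex (ComplexShape.up ℤ)).map φ.hom) ↔
      QuasiIso ((F.mapHomologicalComplex (ComplexShape.up ℕ)).map R.ι) := by
    rw [← quasiIso_map_extendMap_iff F R.ι]
    change QuasiIso ((F.mapHomologicalComplex (ComplexShape.up ℤ)).map R.ι') ↔ _
    rw [InjectiveResolution.ι', Functor.map_comp]
    exact quasiIso_iff_comp_left _ _
  rw [h1, quasiIso_iff]
  constructor
  · exact fun h => ⟨(quasiIsoAt_map_ι_zero_iff F R).1 (h 0),
      fun i hi => (quasiIsoAt_map_ι_succ_iff F R i hi).1 (h i)⟩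
  · rintro ⟨h0, hi⟩ (_ | n)
    · exact (quasiIsoAt_map_ι_zero_iff F R).2 h0
    · exact (quasiIsoAt_map_ι_succ_iff F R _ n.succ_pos).2 (hi _ n.succ_pos)

theorem isIso_unit_single_iff (X : A) :
    IsIso (F.rightDerivedFunctorPlusUnit.app
        ((HomotopyCategory.Plus.singleFunctor A 0).obj X)) ↔
      (IsIso (F.toRightDerivedZero.app X) ∧
        ∀ i : ℕ, 0 < i → IsZero ((F.rightDerived i).obj X)) := by
  rw [← isIso_unit_single₀P_iff]
  exact NatTrans.isIso_app_iff_of_iso _
    ((HomotopyCategory.Plus.fullyFaithfulι A).preimageIso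
      (eqToIso (by simp; rfl) :
        (HomotopyCategory.Plus.ι A).obj ((HomotopyCategory.Plus.singleFunctor A 0).obj X) ≅
        (HomotopyCategory.Plus.ι A).obj ((HomotopyCategory.Plus.quotient A).obj (single₀P X))))

end Groth.Agent.RFPlus
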